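import Groth.Agent.StackCount.K815.Procyc
import Groth.Prelude.Def_GalTw
import Groth.Prelude.Def_AlgGrp

/-!
# Surjections with Lang kernel induce bijections on `H¹` of a procyclic group; the conjugation action
-/

set_option autoImplicit false
universe u v

namespace K869.ProcH1

open K815.Procyc GalTw

variable {Γ : Type u} [Group Γ] [TopologicalSpace Γ] [IsTopologicalGroup Γ]

theorem exists_pow_fix {B : Type v} [Group B] [MulDistribMulAction Γ B] {π : Γ} (hπ : Gen π)
    (hcont : ∀ a : B, IsOpen {σ : Γ | σ • a = a}) (b : B) : ∃ n : ℕ, n ≠ 0 ∧ π ^ n • b = b := by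
  obtain ⟨i, hi⟩ := hπ.dense ((fun τ => τ * π) ⁻¹' {τ : Γ | τ • b = b})
    ((hcont b).preimage (continuous_mul_const π)) ⟨π⁻¹, by simp⟩
  refine ⟨i + 1, Nat.succ_ne_zero i, ?_⟩
  rw [pow_succ]
  exact hi

theorem smul_eq_pow {B : Type v} [Group B] [MulDistribMulAction Γ B] {π : Γ} (hπ : Gen π)
    (hcont : ∀ a : B, IsOpen {σ : Γ | σ • a = a}) (σ : Γ) (b : B) : ∃ n : ℕ, π ^ n • b = σ • b := by
  obtain ⟨i, hi⟩ := hπ.dense _ (isOpen_smul_eq hcont σ b) ⟨σ, rfl⟩
  exact ⟨i, hi⟩

/-- Every element lies in a finite stable subgroup, when powers of the generator have finitely many fixed points. -/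
theorem exists_fin {B : Type v} [Group B] [MulDistribMulAction Γ B] {π : Γ} (hπ : Gen π)
    (hcont : ∀ a : B, IsOpen {σ : Γ | σ • a = a})
    (hfin : ∀ n : ℕ, n ≠ 0 → {x : B | π ^ n • x = x}.Finite) (b : B) :
    ∃ H : Subgroup B, (H : Set B).Finite ∧ b ∈ H ∧ ∀ (σ : Γ) (x : B), x ∈ H → σ • x ∈ H := by
  obtain ⟨n, hn, hb⟩ := exists_pow_fix hπ hcont b
  let H : Subgroup B :=
    { carrier := {x : B | π ^ n • x = x}
      one_mem' := smul_one _
      mul_mem' := fun {x y} hx hy => by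
        change π ^ n • (x * y) = x * y
        rw [smul_mul', show π ^ n • x = x from hx, show π ^ n • y = y from hy]
      inv_mem' := fun {x} hx => by
        change π ^ n • x⁻¹ = x⁻¹
        rw [smul_inv', show π ^ n • x = x from hx] }
  refine ⟨H, hfin n hn, hb, fun σ x hx => ?_⟩
  obtain ⟨m, hm⟩ := smul_eq_pow hπ hcont σ x
  change π ^ n • σ • x = σ • x
  rw [← hm, smul_smul, ← pow_add, add_comm, pow_add, mul_smul, show π ^ n • x = x from hx]

variable {A B C : Type v} [Group A] [Group B] [Group C] [MulDistribMulAction Γ B] [MulDistribMulAction Γ C]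

/-- A surjection of discrete `Γ`-groups whose kernel satisfies the twisted Lang theorem induces a bijection on `H¹`. -/
theorem bijective_H1lcMap {π : Γ} (hπ : Gen π) (i : A →* B) (p : B →* C)
    (hpe : ∀ (σ : Γ) (x : B), p (σ • x) = σ • p x)
    (hcB : ∀ a : B, IsOpen {σ : Γ | σ • a = a}) (hcC : ∀ a : C, IsOpen {σ : Γ | σ • a = a})
    (hfB : ∀ a : B, ∃ H : Subgroup B, (H : Set B).Finite ∧ a ∈ H ∧ ∀ (σ : Γ) (x : B), x ∈ H → σ • x ∈ H)
    (hp : Function.Surjective p) (hex : ∀ b, p b = 1 → ∃ a, i a = b)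
    (lang : ∀ (β : B) (a : A), ∃ x : A, i x * (β * π • i x * β⁻¹)⁻¹ = i a) :
    Function.Bijective (H1lcMap p hpe) := by
  constructor
  · intro z z' h
    obtain ⟨z, rfl⟩ := Quotient.exists_rep z
    obtain ⟨z', rfl⟩ := Quotient.exists_rep z'
    change (lcMap p hpe z).cl = (lcMap p hpe z').cl at h
    change z.cl = z'.cl
    rw [hπ.cl_eq_iff hcC] at h
    rw [hπ.cl_eq_iff hcB]
    obtain ⟨c, hc⟩ := h
    change p (z'.1 π) = c * p (z.1 π) * (π • c)⁻¹ at hc
    obtain ⟨g, rfl⟩ := hp c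
    have h1 : p (z'.1 π * (g * z.1 π * (π • g)⁻¹)⁻¹) = 1 := by
      rw [map_mul, hc, map_inv, map_mul, map_mul, map_inv, hpe, mul_inv_cancel]
    obtain ⟨a, ha⟩ := hex _ h1
    obtain ⟨x, hx⟩ := lang (g * z.1 π * (π • g)⁻¹) a
    refine ⟨i x * g, ?_⟩
    rw [smul_mul']
    have h2 : z'.1 π = i a * (g * z.1 π * (π • g)⁻¹) := by
      rw [ha]; group
    rw [h2, ← hx]
    group
  · intro c
    obtain ⟨c, rfl⟩ := Quotient.exists_rep c
    obtain ⟨b, hb⟩ := hp (c.1 π)
    obtain ⟨z, hz⟩ := (hπ.bijective hcB hfB).2 b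
    refine ⟨z.cl, ?_⟩
    rw [H1lcMap_cl]
    have : lcMap p hpe z = c := hπ.cocycle_ext (by
      change p (z.1 π) = c.1 π
      rw [← hb]
      exact congrArg p hz)
    rw [this]
    rfl

end K869.ProcH1

open CategoryTheory Limits MonoidalCategory CartesianMonoidalCategory MonObj GrpObj AlgebraicGeometry

namespace K869.ProcH1

variable {S : Scheme.{u}} {A B : Over S} [GrpObj A] [GrpObj B] (i : A ⟶ B)

/-- An action of `B` on `A` by conjugation, from a lift of the conjugation morphism along a monomorphism. -/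
noncomputable def conjAct [Mono i] (c : B ⊗ A ⟶ A) (hc : c ≫ i = fst B A * (snd B A ≫ i) * (fst B A)⁻¹) :
    AlgGrp.Action B A where
  act := c
  one_act := by
    rw [← cancel_mono i, Category.assoc, hc, MonObj.comp_mul, MonObj.comp_mul, GrpObj.comp_inv]
    have h1 : (η[B] ▷ A) ≫ fst B A = (1 : 𝟙_ (Over S) ⊗ A ⟶ B) := by
      rw [whiskerRight_fst, Hom.one_def]
      congr 1
    have h2 : (η[B] ▷ A) ≫ snd B A = (λ_ A).hom := by
      rw [whiskerRight_snd, leftUnitor_hom]
    rw [h1, ← Category.assoc, h2, _root_.one_mul, inv_one, _root_.mul_one]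
  mul_act := by
    have h : ∀ (T : Over S) (g : T ⟶ B) (a : T ⟶ A), (lift g a ≫ c) ≫ i = g * (a ≫ i) * g⁻¹ := by
      intro T g a
      rw [Category.assoc, hc, MonObj.comp_mul, MonObj.comp_mul, GrpObj.comp_inv, lift_fst, lift_snd_assoc]
    rw [← cancel_mono i]
    have e1 : (μ[B] ▷ A) = lift (fst (B ⊗ B) A ≫ μ[B]) (snd (B ⊗ B) A) := by
      apply CartesianMonoidalCategory.hom_ext <;> simp
    have e2 : (α_ B B A).hom ≫ (B ◁ c) = lift (fst (B ⊗ B) A ≫ fst B B)
        (lift (fst (B ⊗ B) A ≫ snd B B) (snd (B ⊗ B) A) ≫ c) := by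
      apply CartesianMonoidalCategory.hom_ext
      · simp
      · simp only [Category.assoc, whiskerLeft_snd, lift_snd]
        rw [← Category.assoc]
        congr 1
        apply CartesianMonoidalCategory.hom_ext <;> simp
    have e3 : fst (B ⊗ B) A ≫ μ[B] = (fst (B ⊗ B) A ≫ fst B B) * (fst (B ⊗ B) A ≫ snd B B) := by
      rw [Hom.mul_def]
      congr 1
      apply CartesianMonoidalCategory.hom_ext <;> simp
    rw [e1, h, e3, ← Category.assoc, e2, h, h]
    group

end K869.ProcH1
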